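import Groth.Agent.PrincCovLib.Basic
import Groth.Agent.EtVanish.ArtinSchreierAlg

/-! Principal `ℤ/p`-covers in characteristic `p`. -/

set_option autoImplicit false
set_option backward.isDefEq.respectTransparency false

universe u
open CategoryTheory AlgebraicGeometry Polynomial

noncomputable section

namespace Groth.Agent.PrincCovLib

variable (A : Type u) [CommRing A] (p : ℕ) [Fact p.Prime] [CharP A p]

theorem etale_artinSchreier (a : A) : Algebra.Etale A (SGA1t.artinSchreier A p a) := by
  have hp : p.Prime := Fact.out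
  have h0 : (p : A) = 0 := CharP.cast_eq_zero A p
  have hd : derivative ((X : A[X]) ^ p - X - C a) = -1 := by
    simp [derivative_X_pow, h0]
  let P : StandardEtalePair A :=
    { f := X ^ p - X - C a
      monic_f := by
        rw [sub_sub]
        exact monic_X_pow_sub (lt_of_le_of_lt (degree_add_le_of_degree_le degree_X_le
          (le_trans degree_C_le zero_le_one)) (by exact_mod_cast hp.one_lt))
      g := 1
      cond := ⟨-1, 0, 0, by rw [hd]; simp⟩ }
  haveI : IsLocalization.Away (1 : AdjoinRoot P.f) (Localization.Away (AdjoinRoot.mk P.f P.g)) := by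
    have : AdjoinRoot.mk P.f P.g = (1 : AdjoinRoot P.f) := map_one _
    rw [this]; infer_instance
  haveI : Algebra.Etale A (AdjoinRoot P.f) := Algebra.Etale.of_equiv (P.equivAwayAdjoinRoot.trans
    ((IsLocalization.atOne (AdjoinRoot P.f)
      (Localization.Away (AdjoinRoot.mk P.f P.g))).symm.restrictScalars A))
  exact ‹Algebra.Etale A (AdjoinRoot P.f)›

theorem exists_iso_artinSchreier (P : FEt.Cat (Spec (CommRingCat.of A))) (ρ : Multiplicative (ZMod p) →* Aut P)
    (hP : SGA1t.IsPrincipal (Multiplicative (ZMod p)) P ρ) :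
    ∃ (a : A) (e : P.left ≅ Spec (CommRingCat.of (SGA1t.artinSchreier A p a))),
      e.hom ≫ Spec.map (CommRingCat.ofHom (algebraMap A (SGA1t.artinSchreier A p a))) = P.hom ∧
      ∀ j : ZMod p, (ρ (Multiplicative.ofAdd j)).hom.left ≫ e.hom =
        e.hom ≫ Spec.map (CommRingCat.ofHom (SGA1t.artinSchreierShift A p a j)) := by
  obtain ⟨B, iB, iAB, M, e, hfin, het, hs, he, hρ⟩ := exists_model P ρ hP
  haveI : Module.FaithfullyFlat A B :=
    RingHom.faithfullyFlat_algebraMap_iff.mp (RingHom.FaithfullyFlat.iff_flat_and_comap_surjective.mpr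
      ⟨RingHom.flat_algebraMap_iff.mpr inferInstance, hs⟩)
  obtain ⟨b, hb⟩ := M.exists_trace_eq_one
  let κ : ZMod p →+* A := ZMod.castHom (dvd_refl p) A
  let c : Multiplicative (ZMod p) → A := fun g => -κ g.toAdd
  let y : B := ∑ g, c g • M.σ g b
  have hy : ∀ g, M.σ g y = y + algebraMap A B (κ g.toAdd) := by
    intro g
    have h1 : M.σ g y = ∑ i, (c i + κ g.toAdd) • M.σ i b := by
      rw [M.σ_apply_sum]
      refine Finset.sum_congr rfl fun i _ => ?_
      congr 1
      simp [c, toAdd_mul, toAdd_inv]
      abel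
    rw [h1]
    simp only [add_smul, Finset.sum_add_distrib, ← Finset.smul_sum, hb]
    rw [Algebra.smul_def (κ g.toAdd) (1 : B), mul_one]
  haveI : CharP A p := ‹_›
  have h0 : (p : B) = 0 := by rw [← map_natCast (algebraMap A B), CharP.cast_eq_zero, map_zero]
  have hκ : ∀ j : ZMod p, κ j ^ p = κ j := fun j => by rw [← map_pow, ZMod.pow_card]
  have hinv : ∀ g, M.σ g (y ^ p - y) = y ^ p - y := by
    intro g
    rw [map_sub, map_pow, hy]
    rcases subsingleton_or_nontrivial B with hB | hB
    · exact Subsingleton.elim _ _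
    haveI : CharP B p := (CharP.ringChar_of_prime_eq_zero Fact.out h0) ▸ ringChar.charP B
    rw [add_pow_char, ← map_pow, hκ]
    abel
  obtain ⟨a, ha⟩ := M.exists_algebraMap_eq (y ^ p - y) hinv
  let q : A[X] := X ^ p - X - C a
  let f : SGA1t.artinSchreier A p a →ₐ[A] B := Ideal.Quotient.liftₐ (Ideal.span {q}) (Polynomial.aeval y) (fun z hz => by
    obtain ⟨w, rfl⟩ := Ideal.mem_span_singleton'.mp hz
    simp [q, ← ha])
  have hfy : f (Ideal.Quotient.mk _ X) = y := Polynomial.aeval_X y
  have hext : ∀ {R : Type u} [CommRing R] [Algebra A R] (u v : SGA1t.artinSchreier A p a →ₐ[A] R),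
      u (Ideal.Quotient.mk _ X) = v (Ideal.Quotient.mk _ X) → u = v := by
    intro R _ _ u v h
    exact Ideal.Quotient.algHom_ext A (Polynomial.algHom_ext h)
  haveI := etale_artinSchreier A p a
  have hiso : IsIso (Spec.map (CommRingCat.ofHom f.toRingHom)) := by
    refine isIso_specMap f fun Ω _ _ _ => ?_
    have hΩ : (p : Ω) = 0 := by rw [← map_natCast (algebraMap A Ω), CharP.cast_eq_zero, map_zero]
    haveI : CharP Ω p := (CharP.ringChar_of_prime_eq_zero Fact.out hΩ) ▸ ringChar.charP Ω
    have hc : ∀ j : ZMod p, algebraMap A Ω (κ j) = ZMod.castHom (dvd_refl p) Ω j := fun j =>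
      RingHom.congr_fun (Subsingleton.elim ((algebraMap A Ω).comp κ) (ZMod.castHom (dvd_refl p) Ω)) j
    constructor
    · intro s t hst
      obtain ⟨g, hg, -⟩ := M.existsUnique Ω s t
      have h1 := congrArg (fun u => u (Ideal.Quotient.mk _ X)) hst
      simp only [AlgHom.comp_apply, hfy] at h1
      rw [← hg, AlgHom.comp_apply, hy, map_add, AlgHom.commutes, left_eq_add, hc] at h1
      have hj : g.toAdd = 0 := (ZMod.castHom (dvd_refl p) Ω).injective (by rw [h1, map_zero])
      have hg1 : g = 1 := hj
      rw [← hg, hg1, M.comp_σ_one]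
    · intro u
      obtain ⟨s⟩ := M.exists_pt Ω
      let z := u (Ideal.Quotient.mk _ X)
      have hz : z ^ p - z = algebraMap A Ω a := by
        have hq : Ideal.Quotient.mk (Ideal.span {q}) q = 0 :=
          Ideal.Quotient.eq_zero_iff_mem.mpr (Ideal.subset_span rfl)
        simp only [q, map_sub, map_pow, sub_eq_zero] at hq
        have this : (Ideal.Quotient.mk (Ideal.span {q}) X) ^ p - Ideal.Quotient.mk (Ideal.span {q}) X =
            algebraMap A (SGA1t.artinSchreier A p a) a := hq
        have h' := congrArg u this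
        rw [map_sub, map_pow, AlgHom.commutes] at h'
        exact h'
      have hsy : s y ^ p - s y = algebraMap A Ω a := by rw [← map_pow, ← map_sub, ← ha, AlgHom.commutes]
      have hw : (z - s y) ^ p = z - s y := by
        rw [sub_pow_char]
        linear_combination hz - hsy
      obtain ⟨n, hn⟩ := EtVanish.exists_natCast_eq_of_pow_eq p Fact.out hΩ hw
      refine ⟨s.comp (M.σ (Multiplicative.ofAdd (n : ZMod p))), hext _ _ ?_⟩
      simp only [AlgHom.comp_apply, hfy, hy, map_add, AlgHom.commutes, toAdd_ofAdd, hc, map_natCast]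
      rw [hn]
      ring
  refine ⟨a, e ≪≫ @asIso _ _ _ _ _ hiso, ?_, fun j => ?_⟩
  · rw [Iso.trans_hom, asIso_hom, Category.assoc, ← Spec.map_comp, ← he]
    congr 2
    exact CommRingCat.hom_ext f.comp_algebraMap
  · rw [Iso.trans_hom, asIso_hom, ← Category.assoc, hρ, Category.assoc, Category.assoc, ← Spec.map_comp,
      ← Spec.map_comp]
    congr 2
    refine CommRingCat.hom_ext (Ideal.Quotient.ringHom_ext (Polynomial.ringHom_ext (fun r => ?_) ?_))
    · change M.σ _ (f (algebraMap A _ r)) = f (SGA1t.artinSchreierShift A p a j (Ideal.Quotient.mk _ (C r)))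
      have : SGA1t.artinSchreierShift A p a j (Ideal.Quotient.mk _ (C r)) = algebraMap A _ r := by
        simp [SGA1t.artinSchreierShift]
        rfl
      rw [this, AlgHom.commutes, AlgHom.commutes]
    · change M.σ _ (f (Ideal.Quotient.mk _ X)) = f (SGA1t.artinSchreierShift A p a j (Ideal.Quotient.mk _ X))
      have : SGA1t.artinSchreierShift A p a j (Ideal.Quotient.mk _ X) =
          Ideal.Quotient.mk _ X + algebraMap A _ (κ j) := by
        simp [SGA1t.artinSchreierShift, κ]
        rfl
      rw [this, map_add, AlgHom.commutes, hfy, hy]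
      rfl

end Groth.Agent.PrincCovLib
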