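import Groth.Prelude.Def_SGA1t
import Groth.Agent.QuotLib.Free

/-! Principal covers of an affine scheme, on rings. -/

set_option autoImplicit false
set_option backward.isDefEq.respectTransparency false

universe u v
open CategoryTheory AlgebraicGeometry
open scoped TensorProduct

noncomputable section

namespace Groth.Agent.PrincCovLib

variable {A : Type u} [CommRing A]

/-- The algebraic content of a principal cover: a group acting on an étale algebra, simply transitively on the
points with values in algebraically closed fields. -/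
structure Model (A : Type u) [CommRing A] (G : Type v) [Group G] (B : Type u) [CommRing B] [Algebra A B] where
  σ : G → (B →ₐ[A] B)
  map_mul : ∀ g h, σ (g * h) = (σ h).comp (σ g)
  exists_pt : ∀ (Ω : Type u) [Field Ω] [IsAlgClosed Ω] [Algebra A Ω], Nonempty (B →ₐ[A] Ω)
  existsUnique : ∀ (Ω : Type u) [Field Ω] [IsAlgClosed Ω] [Algebra A Ω] (s t : B →ₐ[A] Ω),
    ∃! g, s.comp (σ g) = t

theorem exists_pt_of_surjective {B : Type u} [CommRing B] [Algebra A B] [Module.Finite A B]
    (hs : Function.Surjective (PrimeSpectrum.comap (algebraMap A B))) (Ω : Type u) [Field Ω] [IsAlgClosed Ω]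
    [Algebra A Ω] : Nonempty (B →ₐ[A] Ω) := by
  let p : PrimeSpectrum A := PrimeSpectrum.comap (algebraMap A Ω) ⟨⊥, Ideal.bot_prime⟩
  obtain ⟨q, hq⟩ := hs p
  let κ := q.asIdeal.ResidueField
  have hker : ∀ a : A, algebraMap A Ω a = 0 ↔ algebraMap A B a ∈ q.asIdeal := by
    intro a
    have h1 : algebraMap A B a ∈ q.asIdeal ↔ a ∈ p.asIdeal := by rw [← hq]; rfl
    rw [h1]
    exact (Ideal.mem_bot).symm
  let D := B ⧸ q.asIdeal
  let C := A ⧸ RingHom.ker (algebraMap A Ω)
  letI : Algebra C Ω := (RingHom.kerLift (algebraMap A Ω)).toAlgebra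
  have hle : RingHom.ker (algebraMap A Ω) ≤ RingHom.ker (algebraMap A D) := fun a ha => by
    rw [RingHom.mem_ker, IsScalarTower.algebraMap_apply A B D]
    exact Ideal.Quotient.eq_zero_iff_mem.mpr ((hker a).mp ha)
  letI : Algebra C D := (Ideal.Quotient.lift _ (algebraMap A D) fun a ha => hle ha).toAlgebra
  haveI : IsScalarTower A C D := IsScalarTower.of_algebraMap_eq fun a => rfl
  haveI : IsScalarTower A C Ω := IsScalarTower.of_algebraMap_eq fun a => rfl
  haveI : Module.Finite A D := Module.Finite.of_surjective (Ideal.Quotient.mkₐ A q.asIdeal).toLinearMap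
    Ideal.Quotient.mk_surjective
  haveI : Module.Finite C D := Module.Finite.of_restrictScalars_finite A C D
  haveI : FaithfulSMul C D := by
    rw [faithfulSMul_iff_algebraMap_injective]
    intro x y h
    obtain ⟨a, rfl⟩ := Ideal.Quotient.mk_surjective x
    obtain ⟨b, rfl⟩ := Ideal.Quotient.mk_surjective y
    refine Ideal.Quotient.eq.mpr ?_
    rw [RingHom.mem_ker, hker]
    have h' : algebraMap A D (a - b) = 0 := by rw [map_sub, sub_eq_zero]; exact h
    rw [IsScalarTower.algebraMap_apply A B D] at h'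
    exact Ideal.Quotient.eq_zero_iff_mem.mp h'
  haveI : (RingHom.ker (algebraMap A Ω)).IsPrime := RingHom.ker_isPrime _
  haveI : IsDomain C := Ideal.Quotient.isDomain _
  haveI : FaithfulSMul C Ω := by
    rw [faithfulSMul_iff_algebraMap_injective]
    exact RingHom.kerLift_injective _
  haveI : IsDomain D := Ideal.Quotient.isDomain _
  haveI : Algebra.IsAlgebraic C D := Algebra.IsIntegral.isAlgebraic
  let ψ : D →ₐ[C] Ω := IsAlgClosed.lift
  exact ⟨(ψ.restrictScalars A).comp (Ideal.Quotient.mkₐ A q.asIdeal)⟩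

section Scheme
variable {G : Type v} [Group G] (P : FEt.Cat (Spec (CommRingCat.of A))) (ρ : G →* Aut P)
  (hP : SGA1t.IsPrincipal G P ρ)

include hP in
theorem exists_model : ∃ (B : Type u) (_ : CommRing B) (_ : Algebra A B) (M : Model A G B)
    (e : P.left ≅ Spec (CommRingCat.of B)),
    Module.Finite A B ∧ Algebra.Etale A B ∧
    Function.Surjective (PrimeSpectrum.comap (algebraMap A B)) ∧
    e.hom ≫ Spec.map (CommRingCat.ofHom (algebraMap A B)) = P.hom ∧
    ∀ g, (ρ g).hom.left ≫ e.hom = e.hom ≫ Spec.map (CommRingCat.ofHom (M.σ g).toRingHom) := by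
  haveI : IsFinite P.hom := P.prop.1
  haveI : Etale P.hom := P.prop.2
  haveI : IsAffine ((Functor.fromPUnit (Spec (CommRingCat.of A))).obj P.right) := isAffine_Spec _
  haveI : IsAffine P.left := isAffine_of_isAffineHom P.hom
  let e := P.left.isoSpec
  let φ := Spec.preimage (e.inv ≫ P.hom)
  have hφ : Spec.map φ = e.inv ≫ P.hom := Spec.map_preimage _
  letI : Algebra A Γ(P.left, ⊤) := φ.hom.toAlgebra
  have he : e.hom ≫ Spec.map φ = P.hom := by rw [hφ, Iso.hom_inv_id_assoc]
  have hfin : Module.Finite A Γ(P.left, ⊤) := by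
    haveI : IsFinite (Spec.map φ) := by rw [hφ]; infer_instance
    exact (IsFinite.SpecMap_iff (f := φ)).mp inferInstance
  have het : Algebra.Etale A Γ(P.left, ⊤) := by
    haveI : Etale (Spec.map φ) := by rw [hφ]; infer_instance
    exact (RingHom.etale_algebraMap).mp ((HasRingHomProperty.Spec_iff (P := @Etale) (φ := φ)).mp inferInstance)
  have hsurj : Function.Surjective (PrimeSpectrum.comap (algebraMap A Γ(P.left, ⊤))) := by
    intro q
    obtain ⟨x, hx⟩ := hP.1 q
    refine ⟨e.hom x, ?_⟩
    change Spec.map φ (e.hom x) = q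
    rw [← Scheme.Hom.comp_apply, he]
    exact hx
  let τ : G → (Γ(P.left, ⊤) →+* Γ(P.left, ⊤)) := fun g => (Spec.preimage (e.inv ≫ (ρ g).hom.left ≫ e.hom)).hom
  have hτ : ∀ g, Spec.map (CommRingCat.ofHom (τ g)) = e.inv ≫ (ρ g).hom.left ≫ e.hom := fun g => Spec.map_preimage _
  have hw : ∀ g, (ρ g).hom.left ≫ P.hom = P.hom := fun g => Over.w (ρ g).hom.hom
  have hτc : ∀ (g : G) (a : A), τ g (algebraMap A _ a) = algebraMap A _ a := by
    intro g a
    have h1 : φ ≫ CommRingCat.ofHom (τ g) = φ := by
      apply Spec.map_injective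
      rw [Spec.map_comp, hτ, hφ]
      simp only [Category.assoc, Iso.hom_inv_id_assoc, hw]
    exact ConcreteCategory.congr_hom h1 a
  let σ : G → (Γ(P.left, ⊤) →ₐ[A] Γ(P.left, ⊤)) := fun g => { τ g with commutes' := hτc g }
  have hmul : ∀ g h, σ (g * h) = (σ h).comp (σ g) := by
    intro g h
    refine AlgHom.ext fun b => ?_
    have h1 : CommRingCat.ofHom (τ (g * h)) = CommRingCat.ofHom (τ g) ≫ CommRingCat.ofHom (τ h) := by
      apply Spec.map_injective
      rw [Spec.map_comp, hτ, hτ, hτ, map_mul]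
      simp only [Category.assoc, Iso.hom_inv_id_assoc]
      rfl
    exact ConcreteCategory.congr_hom h1 b
  let M : Model A G Γ(P.left, ⊤) :=
    { σ := σ
      map_mul := hmul
      exists_pt := fun Ω _ _ _ => exists_pt_of_surjective hsurj Ω
      existsUnique := fun Ω _ _ _ s t => by
        let ξ : Spec (CommRingCat.of Ω) ⟶ Spec (CommRingCat.of A) := Spec.map (CommRingCat.ofHom (algebraMap A Ω))
        let pt : (Γ(P.left, ⊤) →ₐ[A] Ω) → FEt.fiberObj ξ P := fun r =>
          ⟨Spec.map (CommRingCat.ofHom r.toRingHom) ≫ e.inv, by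
            rw [Category.assoc, ← hφ, ← Spec.map_comp]
            simp only [ξ]
            congr 1
            exact CommRingCat.hom_ext r.comp_algebraMap⟩
        have key : ∀ (g : G), (FEt.fiber ξ).map (ρ g).hom (pt s) = pt t ↔ s.comp (σ g) = t := by
          intro g
          have h1 : ((FEt.fiber ξ).map (ρ g).hom (pt s)).1 =
              Spec.map (CommRingCat.ofHom (s.comp (σ g)).toRingHom) ≫ e.inv := by
            change (Spec.map (CommRingCat.ofHom s.toRingHom) ≫ e.inv) ≫ (ρ g).hom.left = _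
            have h2 : Spec.map (CommRingCat.ofHom (s.comp (σ g)).toRingHom) =
                Spec.map (CommRingCat.ofHom s.toRingHom) ≫ Spec.map (CommRingCat.ofHom (τ g)) := by
              rw [← Spec.map_comp]; rfl
            rw [h2, hτ]
            simp only [Category.assoc, Iso.hom_inv_id, Category.comp_id]
          constructor
          · intro h
            have h3 : Spec.map (CommRingCat.ofHom (s.comp (σ g)).toRingHom) = Spec.map (CommRingCat.ofHom t.toRingHom) :=
              (cancel_mono e.inv).mp (h1.symm.trans (congrArg Subtype.val h))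
            exact AlgHom.ext fun b => ConcreteCategory.congr_hom (Spec.map_injective h3) b
          · intro h
            refine Subtype.ext (h1.trans ?_)
            rw [h]
        obtain ⟨g, hg, hu⟩ := hP.2 Ω ξ (pt s) (pt t)
        exact ⟨g, (key g).mp hg, fun g' hg' => hu g' ((key g').mpr hg')⟩ }
  refine ⟨Γ(P.left, ⊤), inferInstance, inferInstance, M, e, hfin, het, hsurj, he, fun g => ?_⟩
  change _ = e.hom ≫ Spec.map (CommRingCat.ofHom (τ g))
  rw [hτ, Iso.hom_inv_id_assoc]

end Scheme

namespace Model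

variable {G : Type v} [Group G] {B : Type u} [CommRing B] [Algebra A B] (M : Model A G B)

/-- The twisted trace is nonzero at every geometric point. -/
theorem exists_sum_ne_zero [Fintype G] (c : G → A) (Ω : Type u) [Field Ω] [IsAlgClosed Ω] [Algebra A Ω]
    (hc : algebraMap A Ω (c 1) ≠ 0) (s : B →ₐ[A] Ω) :
    ∃ b : B, s (∑ g, c g • M.σ g b) ≠ 0 := by
  by_contra! h
  let f : G → (B →* Ω) := fun g => (s.comp (M.σ g) : B →* Ω)
  have hf : Function.Injective f := fun g g' hgg => by
    obtain ⟨g₀, -, hu⟩ := M.existsUnique Ω s (s.comp (M.σ g'))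
    exact (hu g (AlgHom.ext fun b => DFunLike.congr_fun hgg b)).trans (hu g' rfl).symm
  have hli := Fintype.linearIndependent_iff.mp ((linearIndependent_monoidHom B Ω).comp f hf)
    (fun g => algebraMap A Ω (c g)) (funext fun b => by
      have h' := h b
      simp only [map_sum, map_smul, Algebra.smul_def, _root_.map_mul, AlgHom.commutes] at h'
      simpa [f, Algebra.smul_def] using h')
  exact hc (hli 1)

theorem σ_apply_sum [Fintype G] (c : G → A) (h : G) (b : B) :
    M.σ h (∑ g, c g • M.σ g b) = ∑ g, c (g * h⁻¹) • M.σ g b := by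
  rw [map_sum]
  refine Fintype.sum_equiv (Equiv.mulRight h) _ _ fun g => ?_
  rw [Equiv.coe_mulRight, mul_inv_cancel_right, map_smul, M.map_mul]
  rfl

include M in
theorem comp_σ_one (Ω : Type u) [Field Ω] [IsAlgClosed Ω] [Algebra A Ω] (s : B →ₐ[A] Ω) :
    s.comp (M.σ 1) = s := by
  obtain ⟨g, hg, -⟩ := M.existsUnique Ω s s
  calc s.comp (M.σ 1) = (s.comp (M.σ g)).comp (M.σ 1) := by rw [hg]
    _ = s.comp (M.σ (1 * g)) := by rw [M.map_mul, AlgHom.comp_assoc]
    _ = s := by rw [one_mul, hg]

/-- Invariants come from the base. -/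
theorem exists_algebraMap_eq [Module.FaithfullyFlat A B] [Algebra.Etale A B] (c : B) (hc : ∀ g, M.σ g c = c) :
    ∃ a, algebraMap A B a = c := by
  suffices hz : (1 : B) ⊗ₜ[A] c - c ⊗ₜ[A] 1 = 0 by
    rw [sub_eq_zero] at hz
    have hr : c ∈ LinearMap.range (Algebra.linearMap A B) := by
      rw [← Submodule.Quotient.mk_eq_zero]
      apply Module.FaithfullyFlat.tensorProduct_mk_injective (A := A) (B := B) (B ⧸ LinearMap.range (Algebra.linearMap A B))
      rw [map_zero, TensorProduct.mk_apply]
      have h := congrArg ((LinearMap.range (Algebra.linearMap A B)).mkQ.lTensor B) hz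
      rw [LinearMap.lTensor_tmul, LinearMap.lTensor_tmul] at h
      refine h.trans ?_
      rw [show (LinearMap.range (Algebra.linearMap A B)).mkQ (1 : B) = 0 from
        (Submodule.Quotient.mk_eq_zero _).mpr ⟨1, map_one (algebraMap A B)⟩, TensorProduct.tmul_zero]
    obtain ⟨a, ha⟩ := hr
    exact ⟨a, ha⟩
  obtain ⟨t, ht, ht1⟩ := (Algebra.FormallyUnramified.iff_exists_tensorProduct (R := A) (S := B)).mp inferInstance
  by_contra hne
  let z := (1 : B) ⊗ₜ[A] c - c ⊗ₜ[A] 1
  let Ann : Ideal (B ⊗[A] B) := LinearMap.ker (LinearMap.toSpanSingleton (B ⊗[A] B) (B ⊗[A] B) z)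
  have hA : Ann ≠ ⊤ := by
    intro h
    have : (1 : B ⊗[A] B) ∈ Ann := h ▸ Submodule.mem_top
    exact hne (by simpa [Ann] using this)
  obtain ⟨Q, hQ, hAQ⟩ := Ideal.exists_le_maximal Ann hA
  haveI := hQ
  letI : Field ((B ⊗[A] B) ⧸ Q) := Ideal.Quotient.field Q
  let Ω := AlgebraicClosure ((B ⊗[A] B) ⧸ Q)
  let r₀ : B ⊗[A] B →+* Ω := (algebraMap ((B ⊗[A] B) ⧸ Q) Ω).comp (Ideal.Quotient.mk Q)
  letI : Algebra A Ω := (r₀.comp (algebraMap A (B ⊗[A] B))).toAlgebra
  let r : B ⊗[A] B →ₐ[A] Ω := { r₀ with commutes' := fun _ => rfl }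
  let s := r.comp (Algebra.TensorProduct.includeLeft : B →ₐ[A] B ⊗[A] B)
  let s' := r.comp (Algebra.TensorProduct.includeRight : B →ₐ[A] B ⊗[A] B)
  obtain ⟨g, hg, -⟩ := M.existsUnique Ω s s'
  let F := Algebra.TensorProduct.map (M.σ g) (AlgHom.id A B)
  have h1 : F t * z = 0 := by
    have e := congrArg F (ht c)
    rw [_root_.map_mul, map_zero, map_sub] at e
    simp only [F, Algebra.TensorProduct.map_tmul, map_one, AlgHom.id_apply, hc g] at e
    rw [mul_comm]
    exact e
  have h2 : F t ∈ Q := hAQ (show F t • z = 0 from h1)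
  have e : ∀ w : B ⊗[A] B, r (F w) = s' (Algebra.TensorProduct.lmul' A w) := by
    intro w
    induction w using TensorProduct.induction_on with
    | zero => simp only [map_zero]
    | tmul x y =>
      have e1 : M.σ g x ⊗ₜ[A] y = (M.σ g x ⊗ₜ[A] (1 : B)) * ((1 : B) ⊗ₜ[A] y) := by
        rw [Algebra.TensorProduct.tmul_mul_tmul, mul_one, one_mul]
      rw [Algebra.TensorProduct.map_tmul, Algebra.TensorProduct.lmul'_apply_tmul, AlgHom.id_apply, e1, _root_.map_mul,
        _root_.map_mul]
      exact congrArg (· * _) (DFunLike.congr_fun hg x)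
    | add w w' hw hw' => simp only [map_add, hw, hw']
  have h3 : r (F t) = 0 := by
    change algebraMap ((B ⊗[A] B) ⧸ Q) Ω (Ideal.Quotient.mk Q (F t)) = 0
    rw [Ideal.Quotient.eq_zero_iff_mem.mpr h2, map_zero]
  rw [e, ht1, map_one] at h3
  exact one_ne_zero h3

/-- The trace is surjective onto the base. -/
theorem exists_trace_eq_one [Fintype G] [Module.FaithfullyFlat A B] [Algebra.Etale A B] :
    ∃ b : B, ∑ g, M.σ g b = 1 := by
  let T : B →ₗ[A] B := ∑ g, (M.σ g).toLinearMap
  have hT : ∀ b, T b = ∑ g, M.σ g b := fun b => by simp [T]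
  have hinv : ∀ b h, M.σ h (T b) = T b := fun b h => by
    have := M.σ_apply_sum (fun _ => (1 : A)) h b
    simpa [hT] using this
  let I : Ideal A := Submodule.comap (Algebra.linearMap A B) (LinearMap.range T)
  suffices hI : I = ⊤ by
    have h1 : (1 : A) ∈ I := hI ▸ Submodule.mem_top
    obtain ⟨b, hb⟩ := h1
    exact ⟨b, by rw [← hT, hb]; exact map_one (algebraMap A B)⟩
  by_contra hI
  obtain ⟨m, hm, hIm⟩ := Ideal.exists_le_maximal I hI
  haveI := hm
  letI : Field (A ⧸ m) := Ideal.Quotient.field m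
  let Ω := AlgebraicClosure (A ⧸ m)
  letI : Algebra A Ω := ((algebraMap (A ⧸ m) Ω).comp (Ideal.Quotient.mk m)).toAlgebra
  obtain ⟨s⟩ := M.exists_pt Ω
  obtain ⟨b, hb⟩ := M.exists_sum_ne_zero (fun _ => (1 : A)) Ω (by rw [map_one]; exact one_ne_zero) s
  simp only [one_smul, ← hT] at hb
  obtain ⟨a, ha⟩ := M.exists_algebraMap_eq (T b) (hinv b)
  refine hb ?_
  rw [← ha, AlgHom.commutes]
  change algebraMap (A ⧸ m) Ω (Ideal.Quotient.mk m a) = 0
  rw [Ideal.Quotient.eq_zero_iff_mem.mpr (hIm ⟨b, ha.symm⟩), map_zero]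

end Model

/-- An algebra map of étale algebras bijective on geometric points is an isomorphism on spectra. -/
theorem isIso_specMap {B C : Type u} [CommRing B] [CommRing C] [Algebra A B] [Algebra A C]
    [Algebra.Etale A B] [Algebra.Etale A C] (f : C →ₐ[A] B)
    (h : ∀ (Ω : Type u) [Field Ω] [IsAlgClosed Ω] [Algebra A Ω],
      Function.Bijective (fun s : B →ₐ[A] Ω => s.comp f)) :
    IsIso (Spec.map (CommRingCat.ofHom f.toRingHom)) := by
  letI : Algebra C B := f.toRingHom.toAlgebra
  haveI : IsScalarTower A C B := IsScalarTower.of_algebraMap_eq fun a => (f.commutes a).symm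
  haveI : Algebra.Etale C B := Algebra.Etale.of_restrictScalars (R := A) (A := C) (B := B)
  haveI : Etale (Spec.map (CommRingCat.ofHom f.toRingHom)) :=
    (HasRingHomProperty.Spec_iff (P := @Etale)).mpr (RingHom.etale_algebraMap.mpr ‹Algebra.Etale C B›)
  refine QuotLib.isIso_of_etale_of_geom_bijective _ (fun K _ _ z => ?_) (fun K _ _ a b hab => ?_)
  · let z' := Spec.preimage z
    letI : Algebra A K := (z'.hom.comp (algebraMap A C)).toAlgebra
    let zA : C →ₐ[A] K := { z'.hom with commutes' := fun _ => rfl }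
    obtain ⟨s, hs⟩ := (h K).2 zA
    refine ⟨Spec.map (CommRingCat.ofHom s.toRingHom), ?_⟩
    rw [← Spec.map_comp, ← Spec.map_preimage z]
    congr 1
    exact CommRingCat.hom_ext (congrArg AlgHom.toRingHom hs)
  · let a' := Spec.preimage a
    let b' := Spec.preimage b
    have hab' : CommRingCat.ofHom f.toRingHom ≫ a' = CommRingCat.ofHom f.toRingHom ≫ b' := by
      apply Spec.map_injective
      rw [Spec.map_comp, Spec.map_comp, Spec.map_preimage, Spec.map_preimage]
      exact hab
    letI : Algebra A K := (a'.hom.comp (algebraMap A B)).toAlgebra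
    let aA : B →ₐ[A] K := { a'.hom with commutes' := fun _ => rfl }
    have hbc : ∀ x, b'.hom (algebraMap A B x) = algebraMap A K x := fun x => by
      have := ConcreteCategory.congr_hom hab' (algebraMap A C x)
      change a'.hom (f (algebraMap A C x)) = b'.hom (f (algebraMap A C x)) at this
      rw [f.commutes] at this
      exact this.symm
    let bA : B →ₐ[A] K := { b'.hom with commutes' := hbc }
    have e : aA.comp f = bA.comp f := AlgHom.ext fun x => ConcreteCategory.congr_hom hab' x
    rw [← Spec.map_preimage a, ← Spec.map_preimage b]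
    congr 1
    exact CommRingCat.hom_ext (congrArg AlgHom.toRingHom ((h K).1 e))

end Groth.Agent.PrincCovLib
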