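import Groth.Agent.PrincCovLib.Basic
import Groth.Agent.CyclicCoverLib.Basic

/-! Principal covers under the roots of unity of a local ring. -/

set_option autoImplicit false
set_option backward.isDefEq.respectTransparency false

universe u
open CategoryTheory AlgebraicGeometry Polynomial

noncomputable section

namespace Groth.Agent.PrincCovLib

variable (A : Type u) [CommRing A]

theorem etale_kummer (a : Aˣ) (n : ℕ) (hn1 : 1 ≤ n) (hn : IsUnit ((n : ℕ) : A)) :
    Algebra.Etale A (SGA1t.kummer A (fun _ : Unit => (a : A)) (fun _ => n)) := by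
  haveI := CyclicCoverLib.etale_adjoinRoot A (a : A) a.isUnit n hn1 hn
  let I : Ideal (MvPolynomial Unit A) :=
    Ideal.span (Set.range fun _ : Unit => (MvPolynomial.X () : MvPolynomial Unit A) ^ n - MvPolynomial.C (a : A))
  let fwd : AdjoinRoot ((X : A[X]) ^ n - C (a : A)) →ₐ[A] MvPolynomial Unit A ⧸ I :=
    AdjoinRoot.liftAlgHom _ (Algebra.ofId A _) (Ideal.Quotient.mk I (MvPolynomial.X ())) (by
      simp only [eval₂_sub, eval₂_X_pow, eval₂_C]
      change _ - Ideal.Quotient.mk I (MvPolynomial.C (a : A)) = 0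
      rw [← map_pow, ← map_sub]
      exact Ideal.Quotient.eq_zero_iff_mem.mpr (Ideal.subset_span ⟨(), rfl⟩))
  let bwd : MvPolynomial Unit A ⧸ I →ₐ[A] AdjoinRoot ((X : A[X]) ^ n - C (a : A)) :=
    Ideal.Quotient.liftₐ I (MvPolynomial.aeval fun _ => AdjoinRoot.root _) (fun z hz => by
      have : I ≤ RingHom.ker (MvPolynomial.aeval (R := A) fun _ : Unit => AdjoinRoot.root ((X : A[X]) ^ n - C (a : A))) := by
        rw [Ideal.span_le]
        rintro _ ⟨i, rfl⟩
        rw [SetLike.mem_coe, RingHom.mem_ker, map_sub, map_pow, MvPolynomial.aeval_X, MvPolynomial.aeval_C]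
        have h := AdjoinRoot.eval₂_root ((X : A[X]) ^ n - C (a : A))
        simp only [eval₂_sub, eval₂_X_pow, eval₂_C] at h
        exact h
      exact this hz)
  haveI : Algebra.Etale A (MvPolynomial Unit A ⧸ I) := Algebra.Etale.of_equiv (AlgEquiv.ofAlgHom fwd bwd
    (Ideal.Quotient.algHom_ext A (MvPolynomial.algHom_ext fun i => by
      simp [fwd, bwd]))
    (AdjoinRoot.algHom_ext (by simp [fwd, bwd])))
  exact ‹Algebra.Etale A (MvPolynomial Unit A ⧸ I)›

theorem exists_iso_kummer [IsLocalRing A] (n : ℕ) (hn1 : 1 ≤ n)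
    (hn : IsUnit ((n : ℕ) : A)) (ζ₀ : A) (hζ₀ : IsPrimitiveRoot ζ₀ n)
    (P : FEt.Cat (Spec (CommRingCat.of A))) (ρ : ↥(rootsOfUnity n A) →* Aut P)
    (hP : SGA1t.IsPrincipal ↥(rootsOfUnity n A) P ρ) :
    ∃ (a : Aˣ) (e : P.left ≅ Spec (CommRingCat.of (SGA1t.kummer A (fun _ : Unit => (a : A)) (fun _ => n)))),
      e.hom ≫ Spec.map (CommRingCat.ofHom (algebraMap A (SGA1t.kummer A (fun _ : Unit => (a : A)) (fun _ => n)))) = P.hom ∧
      ∀ ζ : ↥(rootsOfUnity n A), (ρ ζ).hom.left ≫ e.hom =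
        e.hom ≫ Spec.map (CommRingCat.ofHom (SGA1t.kummerTwist A (fun _ : Unit => (a : A)) (fun _ => n) (fun _ => ζ))) := by
  obtain ⟨B, iB, iAB, M, e, hfin, het, hs, he, hρ⟩ := exists_model P ρ hP
  haveI : Module.FaithfullyFlat A B :=
    RingHom.faithfullyFlat_algebraMap_iff.mp (RingHom.FaithfullyFlat.iff_flat_and_comap_surjective.mpr
      ⟨RingHom.flat_algebraMap_iff.mpr inferInstance, hs⟩)
  have hn0 : n ≠ 0 := by omega
  let v : ↥(rootsOfUnity n A) → A := fun ζ => ((ζ : Aˣ) : A)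
  have hv : ∀ ζ, v ζ ^ n = 1 := fun ζ => by
    have h := (mem_rootsOfUnity n (ζ : Aˣ)).mp ζ.2
    simpa [v] using congrArg Units.val h
  have hvmul : ∀ ζ ζ', v (ζ * ζ') = v ζ * v ζ' := fun ζ ζ' => rfl
  -- roots of unity stay distinct in every residue field
  have hsep : ∀ (L : Type u) [Field L] (φ : A →+* L) (w : A), w ^ n = 1 → φ w = 1 → w = 1 := by
    intro L _ φ w hw h1
    have hu : IsUnit (∑ i ∈ Finset.range n, w ^ i) := by
      have hm : w - 1 ∈ IsLocalRing.maximalIdeal A :=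
        IsLocalRing.le_maximalIdeal (RingHom.ker_ne_top φ) (by rw [RingHom.mem_ker, map_sub, h1, map_one, sub_self])
      have hw1 : IsLocalRing.residue A w = 1 := by
        rw [← sub_eq_zero, ← map_one (IsLocalRing.residue A), ← map_sub]
        exact Ideal.Quotient.eq_zero_iff_mem.mpr hm
      by_contra hnu
      have h0 : IsLocalRing.residue A (∑ i ∈ Finset.range n, w ^ i) = 0 :=
        Ideal.Quotient.eq_zero_iff_mem.mpr ((IsLocalRing.mem_maximalIdeal _).mpr hnu)
      have h2 : IsLocalRing.residue A (n : A) = 0 := by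
        rw [← h0]
        simp [map_sum, map_pow, hw1]
      exact (hn.map (IsLocalRing.residue A)).ne_zero h2
    have h3 := geom_sum_mul w n
    rw [hw, sub_self] at h3
    exact sub_eq_zero.mp ((hu.mul_right_eq_zero).mp h3)
  haveI : Finite ↥(rootsOfUnity n A) := by
    let Ω := AlgebraicClosure (IsLocalRing.ResidueField A)
    let φ : A →+* Ω := (algebraMap _ Ω).comp (IsLocalRing.residue A)
    refine Finite.of_injective (β := {z : Ω // z ∈ nthRootsFinset n (1 : Ω)}) (fun ζ => ⟨φ (v ζ), by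
      rw [mem_nthRootsFinset (by omega), ← map_pow, hv, map_one]⟩) fun ζ ζ' h => ?_
    have h' : φ (v ζ) = φ (v ζ') := congrArg Subtype.val h
    have h1 : φ (v (ζ * ζ'⁻¹)) = 1 := by
      rw [hvmul, map_mul, h', ← map_mul, ← hvmul, mul_inv_cancel]
      exact map_one φ
    have h2 := hsep Ω φ _ (hv _) h1
    exact mul_inv_eq_one.mp (Subtype.ext (Units.ext h2))
  haveI := Fintype.ofFinite ↥(rootsOfUnity n A)
  let Ω₀ := AlgebraicClosure (IsLocalRing.ResidueField A)
  letI : Algebra A Ω₀ := ((algebraMap _ Ω₀).comp (IsLocalRing.residue A)).toAlgebra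
  obtain ⟨s₀⟩ := M.exists_pt Ω₀
  let c : ↥(rootsOfUnity n A) → A := fun ζ => v ζ⁻¹
  obtain ⟨b, hb⟩ := M.exists_sum_ne_zero c Ω₀ (by
    have : c 1 = 1 := by simp [c, v]
    rw [this, map_one]; exact one_ne_zero) s₀
  let y : B := ∑ g, c g • M.σ g b
  have hy : ∀ g, M.σ g y = algebraMap A B (v g) * y := by
    intro g
    rw [M.σ_apply_sum, ← Algebra.smul_def, Finset.smul_sum]
    refine Finset.sum_congr rfl fun i _ => ?_
    rw [smul_smul]
    congr 1
  have hinv : ∀ g, M.σ g (y ^ n) = y ^ n := fun g => by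
    rw [map_pow, hy, mul_pow, ← map_pow, hv, map_one, one_mul]
  obtain ⟨a₀, ha₀⟩ := M.exists_algebraMap_eq (y ^ n) hinv
  have hau : IsUnit a₀ := by
    by_contra hnu
    refine hb (pow_eq_zero_iff hn0 |>.mp ?_)
    rw [← map_pow]
    change s₀ (y ^ n) = 0
    rw [← ha₀, AlgHom.commutes]
    change algebraMap (IsLocalRing.ResidueField A) Ω₀ (IsLocalRing.residue A a₀) = 0
    rw [(IsLocalRing.residue_eq_zero_iff a₀).mpr ((IsLocalRing.mem_maximalIdeal _).mpr hnu), map_zero]
  obtain ⟨a, rfl⟩ := hau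
  haveI := etale_kummer A a n hn1 hn
  let I : Ideal (MvPolynomial Unit A) :=
    Ideal.span (Set.range fun _ : Unit => (MvPolynomial.X () : MvPolynomial Unit A) ^ n - MvPolynomial.C (a : A))
  let f : SGA1t.kummer A (fun _ : Unit => (a : A)) (fun _ => n) →ₐ[A] B :=
    Ideal.Quotient.liftₐ I (MvPolynomial.aeval fun _ => y) (fun z hz => by
      have : I ≤ RingHom.ker (MvPolynomial.aeval (R := A) fun _ : Unit => y) := by
        rw [Ideal.span_le]
        rintro _ ⟨i, rfl⟩
        simp [ha₀]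
      exact this hz)
  have hfy : f (Ideal.Quotient.mk _ (MvPolynomial.X ())) = y := MvPolynomial.aeval_X (fun _ : Unit => y) ()
  have hiso : IsIso (Spec.map (CommRingCat.ofHom f.toRingHom)) := by
    refine isIso_specMap f fun Ω _ _ _ => ?_
    have hsy : ∀ s : B →ₐ[A] Ω, s y ^ n = algebraMap A Ω a := fun s => by rw [← map_pow, ← ha₀, AlgHom.commutes]
    have hsy0 : ∀ s : B →ₐ[A] Ω, s y ≠ 0 := fun s h => by
      have h' := hsy s
      rw [h, zero_pow hn0] at h'
      exact (a.isUnit.map (algebraMap A Ω)).ne_zero h'.symm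
    constructor
    · intro s t hst
      obtain ⟨g, hg, -⟩ := M.existsUnique Ω s t
      have h1 := congrArg (fun u => u (Ideal.Quotient.mk _ (MvPolynomial.X ()))) hst
      simp only [AlgHom.comp_apply, hfy] at h1
      rw [← hg, AlgHom.comp_apply, hy, map_mul, AlgHom.commutes] at h1
      have h2 : algebraMap A Ω (v g) = 1 := mul_right_cancel₀ (hsy0 s) (h1.symm.trans (one_mul _).symm)
      have hg1 : g = 1 := Subtype.ext (Units.ext (hsep Ω _ _ (hv g) h2))
      rw [← hg, hg1, M.comp_σ_one]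
    · intro u
      obtain ⟨s⟩ := M.exists_pt Ω
      let z := u (Ideal.Quotient.mk _ (MvPolynomial.X ()))
      have hq : Ideal.Quotient.mk I ((MvPolynomial.X () : MvPolynomial Unit A) ^ n - MvPolynomial.C (a : A)) = 0 :=
        Ideal.Quotient.eq_zero_iff_mem.mpr (Ideal.subset_span ⟨(), rfl⟩)
      rw [map_sub, map_pow, sub_eq_zero] at hq
      have hz : z ^ n = algebraMap A Ω a := by
        have h' := congrArg u hq
        rw [map_pow] at h'
        exact h'.trans (u.commutes _)
      have hprim : IsPrimitiveRoot (algebraMap A Ω ζ₀) n := by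
        refine ⟨by rw [← map_pow, hζ₀.pow_eq_one, map_one], fun l hl => hζ₀.dvd_of_pow_eq_one l ?_⟩
        rw [← map_pow] at hl
        exact hsep Ω _ _ (by rw [← pow_mul, mul_comm, pow_mul, hζ₀.pow_eq_one, one_pow]) hl
      haveI : NeZero n := ⟨hn0⟩
      obtain ⟨i, -, hi⟩ := hprim.eq_pow_of_pow_eq_one (ξ := z / s y)
        (by rw [div_pow, hz, hsy, div_self (a.isUnit.map (algebraMap A Ω)).ne_zero])
      let g : ↥(rootsOfUnity n A) := (hζ₀.toRootsOfUnity) ^ i
      have hg : algebraMap A Ω (v g) = z / s y := by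
        rw [← hi, ← map_pow]
        congr 1
      refine ⟨s.comp (M.σ g), Ideal.Quotient.algHom_ext A (MvPolynomial.algHom_ext fun k => ?_)⟩
      change s (M.σ g (f (Ideal.Quotient.mk _ (MvPolynomial.X k)))) = z
      rw [hfy, hy, map_mul, AlgHom.commutes, hg, div_mul_cancel₀ _ (hsy0 s)]
  refine ⟨a, e ≪≫ @asIso _ _ _ _ _ hiso, ?_, fun ζ => ?_⟩
  · rw [Iso.trans_hom, asIso_hom, Category.assoc, ← Spec.map_comp, ← he]
    congr 2
    exact CommRingCat.hom_ext f.comp_algebraMap
  · rw [Iso.trans_hom, asIso_hom, ← Category.assoc, hρ, Category.assoc, Category.assoc, ← Spec.map_comp,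
      ← Spec.map_comp]
    congr 2
    refine CommRingCat.hom_ext (Ideal.Quotient.ringHom_ext (MvPolynomial.ringHom_ext (fun r => ?_) (fun k => ?_)))
    · change M.σ _ (f (algebraMap A _ r)) = f (SGA1t.kummerTwist A _ _ _ (Ideal.Quotient.mk _ (MvPolynomial.C r)))
      have : SGA1t.kummerTwist A (fun _ : Unit => (a : A)) (fun _ => n) (fun _ => ζ) (Ideal.Quotient.mk _ (MvPolynomial.C r)) =
          algebraMap A _ r := by
        simp [SGA1t.kummerTwist]
        rfl
      rw [this, AlgHom.commutes, AlgHom.commutes]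
    · change M.σ _ (f (Ideal.Quotient.mk _ (MvPolynomial.X k))) =
        f (SGA1t.kummerTwist A _ _ _ (Ideal.Quotient.mk _ (MvPolynomial.X k)))
      have : SGA1t.kummerTwist A (fun _ : Unit => (a : A)) (fun _ => n) (fun _ => ζ) (Ideal.Quotient.mk _ (MvPolynomial.X k)) =
          algebraMap A _ (v ζ) * Ideal.Quotient.mk _ (MvPolynomial.X k) := by
        simp [SGA1t.kummerTwist]
        rfl
      rw [this, map_mul, AlgHom.commutes, hfy, hy]

end Groth.Agent.PrincCovLib
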